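import Mathlib
import Groth.Prelude.Def_Pic
import Groth.Agent.H22Alg.GammaBC
import Groth.Agent.H22Alg.GGDescent
import Groth.Agent.H10Coh.Pn.Results
import Groth.Agent.H11Ample.Basic
import Groth.Agent.H11Tilde.TwistPow
import Groth.Agent.H29RR.FiniteGen
import Groth.Agent.H28Mero.Gen

/-!
# Invertible modules which become trivial over a field extension
-/

set_option autoImplicit false
set_option linter.style.haveILetI false
universe u

open CategoryTheory CategoryTheory.Limits AlgebraicGeometry Opposite TopologicalSpace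
open scoped TensorProduct

namespace Groth.Agent.H23PicInj

/-- A module over an artinian ring which becomes free of rank one over a faithfully flat algebra is
free of rank one. -/
theorem exists_generator {A A' M : Type u} [CommRing A] [IsArtinianRing A] [CommRing A'] [Algebra A A']
    [Module.FaithfullyFlat A A'] [AddCommGroup M] [Module A M] (e : A' ⊗[A] M ≃ₗ[A'] A') :
    ∃ s : M, Submodule.span A {s} = ⊤ := by
  haveI : Module.Finite A' (A' ⊗[A] M) := Module.Finite.equiv e.symm
  haveI : Module.Flat A' (A' ⊗[A] M) := Module.Flat.of_linearEquiv e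
  haveI : Module.Finite A M := Module.Finite.of_finite_tensorProduct_of_faithfullyFlat A'
  haveI : Module.Flat A M := Module.Flat.of_flat_tensorProduct A M A'
  have hr : ∀ P : MaximalSpectrum A, Module.finrank (A ⧸ P.asIdeal) ((A ⧸ P.asIdeal) ⊗[A] M) = 1 := by
    intro P
    haveI := P.isMaximal
    letI : Field (A ⧸ P.asIdeal) := Ideal.Quotient.field P.asIdeal
    obtain ⟨⟨Q, hQp⟩, hQ⟩ := PrimeSpectrum.comap_surjective_of_faithfullyFlat
      (A := A) (B := A') ⟨P.asIdeal, P.isMaximal.isPrime⟩
    let L := FractionRing (A' ⧸ Q)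
    haveI : IsDomain (A' ⧸ Q) := Ideal.Quotient.isDomain Q
    let g : A ⧸ P.asIdeal →+* L := Ideal.Quotient.lift _ (algebraMap A L) fun a ha => by
      have : algebraMap A A' a ∈ Q := by
        have h := congrArg PrimeSpectrum.asIdeal hQ
        simp only [PrimeSpectrum.comap_asIdeal] at h
        rw [← h] at ha
        exact ha
      rw [IsScalarTower.algebraMap_apply A (A' ⧸ Q) L, IsScalarTower.algebraMap_apply A A' (A' ⧸ Q),
        Ideal.Quotient.algebraMap_eq, Ideal.Quotient.eq_zero_iff_mem.2 this, map_zero]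
    letI : Algebra (A ⧸ P.asIdeal) L := g.toAlgebra
    haveI : IsScalarTower A (A ⧸ P.asIdeal) L := .of_algebraMap_eq fun _ => rfl
    rw [← Module.finrank_baseChange (R := L),
      (TensorProduct.AlgebraTensorModule.cancelBaseChange A (A ⧸ P.asIdeal) L L M).finrank_eq,
      ← (TensorProduct.AlgebraTensorModule.cancelBaseChange A A' L L M).finrank_eq,
      ((LinearEquiv.baseChange A' L _ _ e).trans (TensorProduct.AlgebraTensorModule.rid A' L L)).finrank_eq,
      Module.finrank_self]
  haveI : Finite (MaximalSpectrum A) := inferInstance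
  obtain ⟨⟨b⟩⟩ : Nonempty (Nonempty (Module.Basis (Fin 1) A M)) :=
    ⟨Module.nonempty_basis_of_flat_of_finrank_eq (R := A) (M := M) (n := 1) hr⟩
  refine ⟨b 0, ?_⟩
  rw [← b.span_eq]
  congr 1
  ext x
  simp [Fin.exists_fin_one, eq_comm]

theorem nonempty_trivial {k : Type u} [Field k] {X : Scheme.{u}} [X.Over (Spec (CommRingCat.of k))]
    [CompactSpace X] [QuasiSeparatedSpace X]
    (hfin : Module.Finite k (Coh.HH X (Coh.structureModule X) 0))
    {k' : Type u} [Field k'] [Algebra k k'] {X' : Scheme.{u}} {g : X' ⟶ X}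
    {q : X' ⟶ Spec (CommRingCat.of k')}
    (hpb : IsPullback g q (X ↘ Spec (CommRingCat.of k)) (Spec.map (CommRingCat.ofHom (algebraMap k k'))))
    {L : X.Modules} (hL : PicF.IsInvertible L)
    (e : (Scheme.Modules.pullback g).obj L ≅ Coh.structureModule X') :
    Nonempty (L ≅ Coh.structureModule X) := by
  letI : Algebra k Γ(X, ⊤) := (Coh.toGlobal (X ↘ Spec (CommRingCat.of k))).toAlgebra
  haveI : Module.Finite k Γ(X, ⊤) := by
    let ψ : Coh.HH X (Coh.structureModule X) 0 ≃ₗ[k] Γ(X, ⊤) :=
      { H10Coh.HH0Equiv (Coh.structureModule X) with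
        map_smul' := fun c x => by
          simp only [RingHom.id_apply]
          exact H10Coh.HH0Equiv_smul (Coh.structureModule X)
            (Coh.toGlobal (X ↘ Spec (CommRingCat.of k)) c) x }
    exact Module.Finite.equiv ψ
  haveI : IsArtinianRing Γ(X, ⊤) := isArtinian_of_tower k inferInstance
  have hle'' : (⊤ : X'.Opens) ≤ g ⁻¹ᵁ (⊤ : X.Opens) := fun _ _ => trivial
  letI := (g.appLE ⊤ ⊤ hle'').hom.toAlgebra
  haveI : Module.FaithfullyFlat Γ(X, ⊤) Γ(X', ⊤) := by
    have h := H22Alg.GammaBC.faithfullyFlat_global hpb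
    rw [← H22Alg.GammaBC.appLE_top g hle''] at h
    exact h
  letI := Module.compHom Γ((Scheme.Modules.pullback g).obj L, (⊤ : X'.Opens)) (g.appLE ⊤ ⊤ hle'').hom
  haveI : IsScalarTower Γ(X, ⊤) Γ(X', ⊤) Γ((Scheme.Modules.pullback g).obj L, (⊤ : X'.Opens)) :=
    .of_algebraMap_smul fun _ _ => rfl
  have hq : Coh.IsQCoh L := H28Mero.isQCoh_of_isInvertible hL
  have hbc := H22Alg.GammaBC.isBaseChange_global hpb L hq hle''
  let e' : Γ((Scheme.Modules.pullback g).obj L, (⊤ : X'.Opens)) ≃ₗ[Γ(X', ⊤)] Γ(X', ⊤) :=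
    LinearEquiv.ofBijective
      { toFun := fun z => e.hom.app ⊤ z
        map_add' := fun a b => map_add _ a b
        map_smul' := fun r a => Scheme.Modules.Hom.app_smul e.hom r a }
      (H17.PullSect.bijective_app e.hom ⊤)
  obtain ⟨s, hs⟩ := exists_generator (A := Γ(X, ⊤)) (A' := Γ(X', ⊤)) (hbc.equiv.trans e')
  have hgg : Curv2.IsGloballyGenerated L := by
    refine H22Alg.GGDescent.isGloballyGenerated_descend hpb L hq ?_
    let p : (∐ fun _ : PUnit.{u + 1} => Coh.structureModule X') ⟶ (Scheme.Modules.pullback g).obj L :=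
      Sigma.desc fun _ => e.inv
    refine ⟨PUnit.{u + 1}, p, ?_⟩
    haveI : Epi (Sigma.ι (fun _ : PUnit.{u + 1} => Coh.structureModule X') PUnit.unit ≫ p) := by
      rw [Sigma.ι_desc]
      exact IsIso.epi_of_iso e.inv
    exact epi_of_epi (Sigma.ι (fun _ : PUnit.{u + 1} => Coh.structureModule X') PUnit.unit) p
  have hgen : H11Tilde.IsGen L s := fun x hx => by
    have hspan := H29RR.spansAt_of_globallyGenerated hgg x
    have hsurj : Function.Surjective (fun r : X.presheaf.stalk x => r • L.presheaf.germ ⊤ x trivial s) := by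
      intro z
      have hz : z ∈ Submodule.span (X.presheaf.stalk x) {L.presheaf.germ ⊤ x trivial s} := by
        refine (?_ : Submodule.span (X.presheaf.stalk x) _ ≤ _) (hspan.ge (Submodule.mem_top (x := z)))
        refine Submodule.span_le.2 ?_
        rintro _ ⟨m, rfl⟩
        obtain ⟨a, rfl⟩ := Submodule.mem_span_singleton.1 (hs ▸ Submodule.mem_top (x := m) : m ∈ Submodule.span _ {s})
        refine Submodule.mem_span_singleton.2 ⟨X.presheaf.germ ⊤ x trivial a, ?_⟩
        exact (H06Mod.germ_smul L ⊤ (x := x) trivial a s).symm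
      exact Submodule.mem_span_singleton.1 hz
    obtain ⟨V, t, hy, ht⟩ := H11Ample.exists_gen hL x
    let φ : L.presheaf.stalk x ≃ₗ[X.presheaf.stalk x] X.presheaf.stalk x :=
      (LinearEquiv.ofBijective (LinearMap.toSpanSingleton (X.presheaf.stalk x) _
        (L.presheaf.germ V x hy t)) (ht x hy)).symm
    refine (Function.Bijective.of_comp_iff' φ.bijective _).1 ?_
    exact OrzechProperty.bijective_of_surjective_endomorphism
      (φ.toLinearMap.comp (LinearMap.toSpanSingleton (X.presheaf.stalk x) _ (L.presheaf.germ ⊤ x trivial s)))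
      (φ.surjective.comp hsurj)
  haveI := H11Tilde.isIso_homOfGlobal L s fun W => hgen.bijective le_top
  exact ⟨(asIso (H11Tilde.homOfGlobal L s)).symm⟩

end Groth.Agent.H23PicInj
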